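import Mathlib.RingTheory.Smooth.StandardSmoothOfFree
import Mathlib.RingTheory.Etale.Kaehler
import Mathlib.RingTheory.RingHom.Etale
import Mathlib.RingTheory.Unramified.Basic
import Groth.Agent.Lib.JacCrit.EtaleBasis

/-!
# Étale slices of a smooth algebra through an unramified closed subscheme
-/

universe u

open TensorProduct

namespace Groth.Agent.H68.EtSlice

variable {R S : Type u} [CommRing R] [CommRing S] [Algebra R S]

/-- If `R → S/I` is formally unramified then the differentials of elements of `I` generate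
`Ω[S⁄R]` modulo `I`. -/
theorem exists_sub_D_mem (I : Ideal S) [Algebra.FormallyUnramified R (S ⧸ I)]
    (x : Ω[S⁄R]) :
    ∃ g ∈ I, x - KaehlerDifferential.D R S g ∈ I • (⊤ : Submodule S Ω[S⁄R]) := by
  have hs : Function.Surjective (algebraMap S (S ⧸ I)) := Ideal.Quotient.mk_surjective
  have hr := KaehlerDifferential.range_kerCotangentToTensor R S (S ⧸ I) hs
  have hx : (1 : S ⧸ I) ⊗ₜ[S] x ∈ LinearMap.range
      (KaehlerDifferential.kerCotangentToTensor R S (S ⧸ I)) := by
    rw [hr, Submodule.restrictScalars_mem, LinearMap.mem_ker]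
    exact Subsingleton.elim _ _
  obtain ⟨c, hc⟩ := hx
  obtain ⟨⟨g, hg⟩, rfl⟩ := Ideal.toCotangent_surjective _ c
  rw [KaehlerDifferential.kerCotangentToTensor_toCotangent] at hc
  refine ⟨g, ?_, ?_⟩
  · rwa [RingHom.mem_ker, Ideal.Quotient.algebraMap_eq, Ideal.Quotient.eq_zero_iff_mem] at hg
  · have h2 := congrArg (TensorProduct.quotTensorEquivQuotSMul Ω[S⁄R] I) hc
    rw [← map_one (Ideal.Quotient.mk I),
      TensorProduct.quotTensorEquivQuotSMul_mk_tmul,
      TensorProduct.quotTensorEquivQuotSMul_mk_tmul, one_smul, one_smul] at h2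
    exact (Submodule.Quotient.eq _).mp h2.symm

/-- Over a local ring the differentials of elements of `I` contain a basis. -/
theorem exists_basis_localization [Algebra.Smooth R S] (I : Ideal S)
    [Algebra.FormallyUnramified R (S ⧸ I)] (p : Ideal S) [p.IsPrime] (hIp : I ≤ p) :
    ∃ (κ : Type u) (a : κ → I) (b : Module.Basis κ (Localization.AtPrime p)
      Ω[Localization.AtPrime p⁄R]), ∀ i, b i =
        KaehlerDifferential.map R R S (Localization.AtPrime p)
          (KaehlerDifferential.D R S (a i : S)) := by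
  let Sp := Localization.AtPrime p
  let l := KaehlerDifferential.map R R S Sp
  have : Algebra.FormallyEtale S Sp := Algebra.FormallyEtale.of_isLocalization p.primeCompl
  have : Algebra.FormallySmooth R Sp := Algebra.FormallySmooth.comp R S Sp
  have : Algebra.EssFiniteType S Sp := Algebra.EssFiniteType.of_isLocalization Sp p.primeCompl
  have : Algebra.EssFiniteType R Sp := Algebra.EssFiniteType.comp R S Sp
  have : Module.FinitePresentation Sp Ω[Sp⁄R] := Module.finitePresentation_of_projective _ _
  let v : I → Ω[Sp⁄R] := fun g => l (KaehlerDifferential.D R S g.1)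
  let N : Submodule Sp Ω[Sp⁄R] := Submodule.span Sp (Set.range v)
  have hI : ∀ x ∈ I • (⊤ : Submodule S Ω[S⁄R]),
      l x ∈ IsLocalRing.maximalIdeal Sp • (⊤ : Submodule Sp Ω[Sp⁄R]) := by
    intro x hx
    refine Submodule.smul_induction_on hx (fun s hs m _ => ?_) (fun x y hx hy => ?_)
    · rw [map_smul, ← algebraMap_smul Sp s (l m)]
      refine Submodule.smul_mem_smul ?_ Submodule.mem_top
      exact (IsLocalization.AtPrime.to_map_mem_maximal_iff Sp p s).mpr (hIp hs)
    · rw [map_add]; exact add_mem hx hy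
  have hl : ∀ x, l x ∈ N ⊔ IsLocalRing.maximalIdeal Sp • ⊤ := fun x => by
    obtain ⟨g, hg, hgx⟩ := exists_sub_D_mem (R := R) I x
    have := Submodule.add_mem_sup (Submodule.subset_span ⟨⟨g, hg⟩, rfl⟩ : v ⟨g, hg⟩ ∈ N)
      (hI _ hgx)
    simpa [v] using this
  have htop : (⊤ : Submodule Sp Ω[Sp⁄R]) ≤ N ⊔ IsLocalRing.maximalIdeal Sp • ⊤ := by
    intro y _
    obtain ⟨⟨x, s⟩, hs⟩ := IsLocalizedModule.surj p.primeCompl l y
    have hu : IsUnit (algebraMap S Sp s) := IsLocalization.map_units Sp s
    have hy : algebraMap S Sp s • y ∈ N ⊔ IsLocalRing.maximalIdeal Sp • ⊤ := by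
      rw [algebraMap_smul]
      exact hs ▸ hl x
    exact (Submodule.smul_mem_iff_of_isUnit _ hu).mp hy
  have hN : Submodule.span Sp (Set.range v) = ⊤ :=
    top_le_iff.mp (Submodule.le_of_le_smul_of_le_jacobson_bot Module.Finite.fg_top
      (IsLocalRing.maximalIdeal_le_jacobson ⊥) htop)
  obtain ⟨κ, a, b, hb⟩ := Module.exists_basis_of_span_of_flat v hN
  exact ⟨κ, a, b, hb⟩

/-- An étale slice. -/
theorem exists_etale_quotient [Algebra.Smooth R S] (I : Ideal S)
    [Algebra.FormallyUnramified R (S ⧸ I)] (p : Ideal S) [p.IsPrime] (hIp : I ≤ p) :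
    ∃ f ∉ p, ∀ (T : Type u) [CommRing T] [Algebra R T] [Algebra S T] [IsScalarTower R S T]
      [IsLocalization.Away f T],
      ∃ (W : CommRingCat.{u}) (q : T →+* W), Function.Surjective q ∧
        (q.comp (algebraMap R T)).Etale ∧ RingHom.ker q ≤ I.map (algebraMap S T) := by
  obtain ⟨κ, a₀, b₀, hb₀⟩ := exists_basis_localization (R := R) I p hIp
  have : Algebra.EssFiniteType S (Localization.AtPrime p) :=
    Algebra.EssFiniteType.of_isLocalization _ p.primeCompl
  have : Algebra.EssFiniteType R (Localization.AtPrime p) := Algebra.EssFiniteType.comp R S _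
  have : Finite κ := Module.Finite.finite_basis b₀
  let eκ := Finite.equivFin κ
  let r := Nat.card κ
  let b := b₀.reindex eκ
  let a : Fin r → S := fun i => (a₀ (eκ.symm i) : S)
  have ha : ∀ i, a i ∈ I := fun i => (a₀ (eκ.symm i)).2
  have hb : ∀ i, b i = KaehlerDifferential.map R R S (Localization.AtPrime p)
      (KaehlerDifferential.D R S (a i)) := fun i => by simp [b, a, hb₀]
  let e : (Fin r →₀ S) →ₗ[S] Ω[S⁄R] :=
    Finsupp.linearCombination S fun i => KaehlerDifferential.D R S (a i)
  let l₁ : (Fin r →₀ S) →ₗ[S] (Fin r →₀ Localization.AtPrime p) :=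
    Finsupp.mapRange.linearMap (Algebra.linearMap S (Localization.AtPrime p))
  let l₂ : Ω[S⁄R] →ₗ[S] Ω[Localization.AtPrime p⁄R] :=
    KaehlerDifferential.map R R S (Localization.AtPrime p)
  let eₚ : (Fin r →₀ Localization.AtPrime p) →ₗ[Localization.AtPrime p]
      Ω[Localization.AtPrime p⁄R] :=
    IsLocalizedModule.mapExtendScalars p.primeCompl l₁ l₂ (Localization.AtPrime p) e
  have : eₚ = b.repr.symm := by
    ext i
    trans IsLocalizedModule.map p.primeCompl l₁ l₂ e <| l₁ <| Finsupp.single i 1
    · simp [eₚ, -IsLocalizedModule.map_apply, l₁]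
    · simp [l₂, e, hb]
  have heₚ : Function.Bijective eₚ := this ▸ b.repr.symm.bijective
  have : Module.FinitePresentation S Ω[S⁄R] := Module.finitePresentation_of_projective _ _
  obtain ⟨f, hf, h⟩ := Module.FinitePresentation.exists_notMem_bijective e p l₁ l₂ heₚ
  refine ⟨f, hf, fun T _ _ _ _ _ => ?_⟩
  have hTfe : Algebra.FormallyEtale S T := Algebra.FormallyEtale.of_isLocalization (.powers f)
  have : Algebra.FinitePresentation S T := IsLocalization.Away.finitePresentation f
  have : Algebra.FormallySmooth R T := Algebra.FormallySmooth.comp R S T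
  have : Algebra.FinitePresentation R T := Algebra.FinitePresentation.trans R S T
  let l₁ₜ : (Fin r →₀ S) →ₗ[S] (Fin r →₀ T) := Finsupp.mapRange.linearMap (Algebra.linearMap S _)
  let l₂ₜ : Ω[S⁄R] →ₗ[S] Ω[T⁄R] := KaehlerDifferential.map R R S T
  rw [← IsLocalizedModule.map_bijective_iff_localizedModuleMap_bijective l₁ₜ l₂ₜ] at h
  let bT : Module.Basis (Fin r) T Ω[T⁄R] := .ofRepr (LinearEquiv.ofBijective
    (IsLocalizedModule.mapExtendScalars (Submonoid.powers f) l₁ₜ l₂ₜ T e) h).symm
  have hbT : ∀ i, bT i = KaehlerDifferential.D R T (algebraMap S T (a i)) := fun i => by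
    simp +zetaDelta [IsLocalizedModule.map_linearCombination]
  let g : Fin r → T := fun i => algebraMap S T (a i)
  let _ : Algebra (MvPolynomial (Fin r) R) T := (MvPolynomial.aeval g).toAlgebra
  have : IsScalarTower R (MvPolynomial (Fin r) R) T :=
    IsScalarTower.of_algebraMap_eq fun x => ((MvPolynomial.aeval g).commutes x).symm
  have hX : (fun i : Fin r => KaehlerDifferential.D R T
      (algebraMap (MvPolynomial (Fin r) R) T (MvPolynomial.X i))) = bT := funext fun i => by
    rw [hbT]; simp [RingHom.algebraMap_toAlgebra, g]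
  have : Algebra.FormallyEtale (MvPolynomial (Fin r) R) T := by
    rw [Groth.Agent.Lib.JacCrit.EtaleBasis.formallyEtale_iff_bijective R,
      Groth.Agent.Lib.JacCrit.EtaleBasis.bijective_iff, hX]
    exact ⟨bT.linearIndependent, bT.span_eq⟩
  have : Algebra.FinitePresentation (MvPolynomial (Fin r) R) T :=
    Algebra.FinitePresentation.of_restrict_scalars_finitePresentation R _ T
  have : Algebra.Etale (MvPolynomial (Fin r) R) T := ⟨inferInstance, inferInstance⟩
  let _ : Algebra (MvPolynomial (Fin r) R) R :=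
    (MvPolynomial.aeval (R := R) (fun _ => (0 : R))).toAlgebra
  have : IsScalarTower R (MvPolynomial (Fin r) R) R :=
    IsScalarTower.of_algebraMap_eq fun x => by simp [RingHom.algebraMap_toAlgebra]
  let q : T →+* R ⊗[MvPolynomial (Fin r) R] T :=
    (Algebra.TensorProduct.includeRight : T →ₐ[MvPolynomial (Fin r) R] _).toRingHom
  have hmove : ∀ (c : R) (t : T), c ⊗ₜ[MvPolynomial (Fin r) R] t = q (algebraMap R T c * t) := by
    intro c t
    calc c ⊗ₜ[MvPolynomial (Fin r) R] t
        = ((MvPolynomial.C c : MvPolynomial (Fin r) R) • (1 : R)) ⊗ₜ t := by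
          rw [Algebra.smul_def, mul_one]; simp [RingHom.algebraMap_toAlgebra]
      _ = (1 : R) ⊗ₜ ((MvPolynomial.C c : MvPolynomial (Fin r) R) • t) :=
          TensorProduct.smul_tmul _ _ _
      _ = q (algebraMap R T c * t) := by
          simp [q, Algebra.smul_def, RingHom.algebraMap_toAlgebra]
  refine ⟨CommRingCat.of (R ⊗[MvPolynomial (Fin r) R] T), q, ?_, ?_, ?_⟩
  · intro w
    induction w using TensorProduct.induction_on with
    | zero => exact ⟨0, map_zero _⟩
    | tmul c t => exact ⟨_, (hmove c t).symm⟩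
    | add x y hx hy =>
      obtain ⟨x', rfl⟩ := hx
      obtain ⟨y', rfl⟩ := hy
      exact ⟨x' + y', map_add _ _ _⟩
  · have : q.comp (algebraMap R T) = algebraMap R (R ⊗[MvPolynomial (Fin r) R] T) := by
      ext c
      rw [Algebra.TensorProduct.algebraMap_apply, Algebra.algebraMap_self, RingHom.id_apply,
        hmove, mul_one]
      rfl
    rw [this]
    exact RingHom.etale_algebraMap.mpr inferInstance
  · intro t ht
    let J := I.map (algebraMap S T)
    let ρ : R →ₐ[MvPolynomial (Fin r) R] T ⧸ J :=
      { toRingHom := algebraMap R (T ⧸ J)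
        commutes' := fun P => by
          have : (algebraMap R (T ⧸ J)).comp (algebraMap (MvPolynomial (Fin r) R) R) =
              algebraMap (MvPolynomial (Fin r) R) (T ⧸ J) := by
            apply MvPolynomial.ringHom_ext <;> intro i
            · rw [IsScalarTower.algebraMap_eq (MvPolynomial (Fin r) R) T (T ⧸ J)]
              simp [RingHom.algebraMap_toAlgebra]
            · rw [IsScalarTower.algebraMap_eq (MvPolynomial (Fin r) R) T (T ⧸ J)]
              simp [RingHom.algebraMap_toAlgebra, g]
              exact (Ideal.Quotient.eq_zero_iff_mem.mpr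
                (Ideal.mem_map_of_mem (algebraMap S T) (ha i))).symm
          exact RingHom.congr_fun this P }
    let π : T →ₐ[MvPolynomial (Fin r) R] T ⧸ J := IsScalarTower.toAlgHom _ T (T ⧸ J)
    have hπ := congrArg (Algebra.TensorProduct.lift ρ π fun _ _ => .all _ _) (RingHom.mem_ker.mp ht)
    simp only [map_zero, q, AlgHom.toRingHom_eq_coe, RingHom.coe_coe,
      Algebra.TensorProduct.includeRight_apply, Algebra.TensorProduct.lift_tmul, map_one, one_mul,
      π, IsScalarTower.coe_toAlgHom', Ideal.Quotient.algebraMap_eq] at hπ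
    exact Ideal.Quotient.eq_zero_iff_mem.mp hπ

end Groth.Agent.H68.EtSlice
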